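import Mathlib

/-!
Evaluation of the transfer to a group of order two on an element squaring to one, and its reduction to the cosets
fixed by a 2-subgroup centralizing that element.  Thompson's transfer lemma is a special case.
-/

namespace CfsgLib.TransferEval

open Function MulAction

variable {G : Type*} [Group G] [Finite G]

/-- The cosets `gH` fixed by `x` with `g⁻¹ x g ∉ K`. -/
def bad (H K : Subgroup G) (x : G) : Set (G ⧸ H) :=
  {q | ∃ g : G, (g : G ⧸ H) = q ∧ g⁻¹ * x * g ∈ H ∧ g⁻¹ * x * g ∉ K}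

lemma mem_bad {H K : Subgroup G} (hK : K.relIndex H = 2) {x g : G} :
    (g : G ⧸ H) ∈ bad H K x ↔ g⁻¹ * x * g ∈ H ∧ g⁻¹ * x * g ∉ K := by
  refine ⟨?_, fun h => ⟨g, rfl, h⟩⟩
  rintro ⟨a, ha, h1, h2⟩
  have hh : a⁻¹ * g ∈ H := QuotientGroup.eq.mp ha
  have e : g⁻¹ * x * g = (a⁻¹ * g)⁻¹ * (a⁻¹ * x * a) * (a⁻¹ * g) := by group
  refine ⟨e ▸ H.mul_mem (H.mul_mem (H.inv_mem hh) h1) hh, ?_⟩
  rw [e]
  intro h3
  apply h2
  have hn : (K.subgroupOf H).Normal := Subgroup.normal_of_index_eq_two hK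
  have := hn.conj_mem ⟨_, H.mul_mem (H.mul_mem (H.inv_mem hh) h1) hh⟩ h3 ⟨_, hh⟩
  rw [Subgroup.mem_subgroupOf] at this
  simpa [mul_assoc] using this

/-- A homomorphism to `ℤˣ` with kernel `K` on `H`. -/
lemma exists_hom {H K : Subgroup G} (hK : K.relIndex H = 2) :
    ∃ φ : H →* ℤˣ, ∀ h : H, ((h : G) ∈ K → φ h = 1) ∧ ((h : G) ∉ K → φ h = -1) := by
  classical
  refine ⟨MonoidHom.mk' (fun h => if (h : G) ∈ K then 1 else -1) ?_, fun h => ⟨fun hh => ?_, fun hh => ?_⟩⟩
  · intro a b
    have := Subgroup.mul_mem_iff_of_index_two (H := K.subgroupOf H) hK (a := a) (b := b)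
    simp only [Subgroup.mem_subgroupOf, Subgroup.coe_mul] at this
    by_cases ha : (a : G) ∈ K <;> by_cases hb : (b : G) ∈ K <;> simp [this, ha, hb]
  · simp [hh]
  · simp [hh]

lemma even_card_bad (hG : ∀ f : G →* ℤˣ, f = 1) {H K : Subgroup G} (hK : K.relIndex H = 2)
    {x : G} (hx : x ^ 2 = 1) : Even (Nat.card (bad H K x)) := by
  classical
  obtain ⟨φ, hφ⟩ := exists_hom hK
  haveI : Fintype (Quotient (orbitRel (Subgroup.zpowers x) (G ⧸ H))) := Fintype.ofFinite _
  haveI : Fintype (G ⧸ H) := Fintype.ofFinite _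
  have ht := MonoidHom.transfer_eq_prod_quotient_orbitRel_zpowers_quot φ x
  rw [hG (MonoidHom.transfer φ), MonoidHom.one_apply] at ht
  -- a function on cosets
  let P : Quotient (orbitRel (Subgroup.zpowers x) (G ⧸ H)) → Prop := fun o => o.out ∈ bad H K x
  have hP : ∀ o, (P o → minimalPeriod (x • ·) o.out = 1) := by
    intro o ho
    rw [minimalPeriod_eq_one_iff_isFixedPt]
    obtain ⟨g, hg, h1, -⟩ := ho
    change x • o.out = o.out
    rw [← hg, MulAction.Quotient.smul_coe, smul_eq_mul, QuotientGroup.eq, mul_inv_rev]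
    rw [← inv_mem_iff]; simpa [mul_assoc] using h1
  have hfac : ∀ o, φ ⟨o.out.out⁻¹ * x ^ minimalPeriod (x • ·) o.out * o.out.out,
      QuotientGroup.out_conj_pow_minimalPeriod_mem H x o.out⟩ = if P o then (-1 : ℤˣ) else 1 := by
    intro o
    have hb : P o ↔ o.out.out⁻¹ * x * o.out.out ∈ H ∧ o.out.out⁻¹ * x * o.out.out ∉ K := by
      simp only [P]
      conv_lhs => rw [← QuotientGroup.out_eq' o.out]
      exact mem_bad hK
    by_cases h : P o
    · rw [if_pos h]
      apply (hφ _).2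
      simpa [hP o h, pow_one] using (hb.mp h).2
    · rw [if_neg h]
      apply (hφ _).1
      by_cases h1 : minimalPeriod (x • ·) o.out = 1
      · have hm := QuotientGroup.out_conj_pow_minimalPeriod_mem H x o.out
        simp only [h1, pow_one] at hm ⊢
        by_contra hh; exact h (hb.mpr ⟨hm, hh⟩)
      · have h2 : minimalPeriod (x • ·) o.out ∣ 2 := by
          rw [← isPeriodicPt_iff_minimalPeriod_dvd]
          change (fun q : G ⧸ H => x • q)^[2] o.out = o.out
          simp only [iterate_succ, iterate_zero, comp_apply, id_eq]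
          rw [smul_smul, ← sq, hx, one_smul]
        rcases (Nat.dvd_prime Nat.prime_two).mp h2 with h3 | h3
        · exact absurd h3 h1
        · simp [h3, hx, K.one_mem]
  simp_rw [hfac] at ht
  rw [Finset.prod_ite, Finset.prod_const, Finset.prod_const_one, mul_one] at ht
  have hev : Even (Finset.univ.filter P).card := by
    rcases Nat.even_or_odd (Finset.univ.filter P).card with h | h
    · exact h
    · rw [h.neg_one_pow] at ht; exact absurd ht (by decide)
  convert hev using 1
  rw [Nat.card_eq_fintype_card, ← Finset.card_univ]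
  symm
  refine Finset.card_bij (fun o ho => ⟨o.out, (Finset.mem_filter.mp ho).2⟩) (fun o ho => Finset.mem_univ _)
    (fun a _ b _ hab => ?_) (fun q _ => ?_)
  · have : a.out = b.out := congrArg Subtype.val hab
    rw [← Quotient.out_eq a, ← Quotient.out_eq b, this]
  · refine ⟨Quotient.mk _ q.1, ?_, ?_⟩
    all_goals
      have hout : (Quotient.mk (orbitRel (Subgroup.zpowers x) (G ⧸ H)) q.1).out = q.1 := by
        obtain ⟨⟨d, k, rfl⟩, hd⟩ := (orbitRel_apply.mp
          (Quotient.mk_out (s := orbitRel (Subgroup.zpowers x) (G ⧸ H)) q.1))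
        rw [← hd]
        obtain ⟨g, hg, h1, -⟩ := q.2
        have hfix : x ∈ MulAction.stabilizer G q.1 := by
          rw [MulAction.mem_stabilizer_iff, ← hg, MulAction.Quotient.smul_coe, smul_eq_mul, QuotientGroup.eq,
            mul_inv_rev]
          rw [← inv_mem_iff]; simpa [mul_assoc] using h1
        exact Subgroup.zpow_mem _ hfix k
    · simp only [Finset.mem_filter, Finset.mem_univ, true_and, P, hout]; exact q.2
    · exact Subtype.ext hout

/-- The parity only depends on the cosets fixed by a 2-subgroup centralizing `x`. -/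
lemma even_card_fixed_bad (hG : ∀ f : G →* ℤˣ, f = 1) {H K : Subgroup G} (hK : K.relIndex H = 2)
    {x : G} (hx : x ^ 2 = 1) (D : Subgroup G) (hD : IsPGroup 2 D) (hDx : ∀ d ∈ D, d * x = x * d) :
    Even (Nat.card {q : G ⧸ H | q ∈ bad H K x ∧ ∀ d ∈ D, d • q = q}) := by
  classical
  have hinv : ∀ d : D, ∀ q ∈ bad H K x, (d : G) • q ∈ bad H K x := by
    rintro d q ⟨g, rfl, h⟩
    refine ⟨d * g, rfl, ?_⟩
    have e : (d * g : G)⁻¹ * x * (d * g) = g⁻¹ * x * g := by
      calc (d * g : G)⁻¹ * x * (d * g) = g⁻¹ * (d : G)⁻¹ * (x * d) * g := by group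
        _ = g⁻¹ * x * g := by rw [← hDx d d.2]; group
    rw [e]; exact h
  let S : SubMulAction D (G ⧸ H) := ⟨bad H K x, fun d q hq => hinv d q hq⟩
  haveI : Fact (Nat.Prime 2) := ⟨Nat.prime_two⟩
  have hmod := hD.card_modEq_card_fixedPoints (p := 2) S
  have heq : Nat.card (fixedPoints D S) = Nat.card {q : G ⧸ H | q ∈ bad H K x ∧ ∀ d ∈ D, d • q = q} :=
    Nat.card_congr
      { toFun := fun q => ⟨q.1.1, q.1.2, fun d hd => congrArg Subtype.val (q.2 ⟨d, hd⟩)⟩
        invFun := fun q => ⟨⟨q.1, q.2.1⟩, fun d => Subtype.ext (q.2.2 d d.2)⟩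
        left_inv := fun q => rfl
        right_inv := fun q => rfl }
  have h1 : Even (Nat.card S) := even_card_bad hG hK hx
  rw [Nat.even_iff] at h1 ⊢
  rw [heq] at hmod
  rw [← h1]; exact hmod.symm

/-- Thompson transfer lemma. -/
lemma thompson_transfer (hG : ∀ f : G →* ℤˣ, f = 1) (T : Sylow 2 G) {M : Subgroup G}
    (hM : M.relIndex (T : Subgroup G) = 2) {x : G} (hxT : x ∈ (T : Subgroup G)) (hx : x ^ 2 = 1) :
    ∃ g : G, g⁻¹ * x * g ∈ M := by
  by_contra hc
  simp only [not_exists] at hc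
  haveI : Fact (Nat.Prime 2) := ⟨Nat.prime_two⟩
  have hz : IsPGroup 2 (Subgroup.zpowers x) := T.isPGroup'.to_le (by rwa [Subgroup.zpowers_le])
  have hev := even_card_fixed_bad hG hM hx (Subgroup.zpowers x) hz (by
    rintro d ⟨k, rfl⟩; exact ((Commute.refl x).zpow_left k).eq)
  have hset : {q : G ⧸ (T : Subgroup G) | q ∈ bad (T : Subgroup G) M x ∧ ∀ d ∈ Subgroup.zpowers x, d • q = q}
      = fixedPoints (Subgroup.zpowers x) (G ⧸ (T : Subgroup G)) := by
    ext q
    constructor
    · rintro ⟨-, h⟩ ⟨d, hd⟩; exact h d hd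
    · intro h
      refine ⟨?_, fun d hd => h ⟨d, hd⟩⟩
      induction q using QuotientGroup.induction_on with
      | H g =>
        refine (mem_bad hM).mpr ⟨?_, hc g⟩
        have := h ⟨x, Subgroup.mem_zpowers x⟩
        change ((x * g : G) : G ⧸ (T : Subgroup G)) = g at this
        rw [QuotientGroup.eq, mul_inv_rev, ← inv_mem_iff] at this
        simpa [mul_assoc] using this
  rw [hset] at hev
  have hmod := hz.card_modEq_card_fixedPoints (p := 2) (G ⧸ (T : Subgroup G))
  have hidx : Nat.card (G ⧸ (T : Subgroup G)) % 2 = 1 := by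
    rw [← Subgroup.index_eq_card]
    rcases Nat.mod_two_eq_zero_or_one (T : Subgroup G).index with h | h
    · exact absurd (Nat.dvd_of_mod_eq_zero h) T.not_dvd_index
    · exact h
  rw [Nat.even_iff] at hev
  rw [Nat.ModEq, hidx, hev] at hmod
  omega

end CfsgLib.TransferEval
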